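import Groth.Agent.EtShSep.Lift
import Groth.Agent.EtShSep.Model
import Mathlib

/-!
Flat finitely presented algebras with geometrically reduced fibres over a normal domain are integrally closed
in their generic fibre.
-/

set_option autoImplicit false
set_option maxHeartbeats 1600000
set_option synthInstance.maxHeartbeats 400000
set_option linter.style.haveILetI false

universe u

open scoped TensorProduct
open IsLocalRing

noncomputable section

namespace Groth.Agent.EtaMod

open Groth.Agent.EtShSep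

theorem map_scaleRoots_monic {R S : Type u} [CommRing R] [CommRing S] (f : R →+* S) {p : Polynomial R} (hp : p.Monic)
    (s : R) : (p.scaleRoots s).map f = (p.map f).scaleRoots (f s) := by
  rcases subsingleton_or_nontrivial S with h | h
  · exact Subsingleton.elim _ _
  · exact Polynomial.map_scaleRoots _ _ _ (by rw [hp.leadingCoeff, map_one]; exact one_ne_zero)

/-- over a discrete valuation ring, integral fractions of a flat algebra with reduced special fibre are integral -/
theorem exists_eq_mul_of_integral {V M : Type u} [CommRing V] [IsDomain V] [IsDiscreteValuationRing V] [CommRing M]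
    [Algebra V M] [Module.Flat V M] [IsReduced ((maximalIdeal V).ResidueField ⊗[V] M)] {a : V} (ha : a ≠ 0)
    {q : Polynomial M} (hq : q.Monic) {c : M} (hc : (q.scaleRoots (algebraMap V M a)).eval c = 0) :
    ∃ d, c = algebraMap V M a * d := by
  obtain ⟨π, hπ⟩ := IsDiscreteValuationRing.exists_irreducible V
  obtain ⟨n, u, rfl⟩ := IsDiscreteValuationRing.eq_unit_mul_pow_irreducible ha hπ
  clear ha
  let ρ : M →+* (maximalIdeal V).ResidueField ⊗[V] M :=
    (Algebra.TensorProduct.includeRight : M →ₐ[V] (maximalIdeal V).ResidueField ⊗[V] M).toRingHom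
  have hρπ : ρ (algebraMap V M π) = 0 := by
    show (1 : (maximalIdeal V).ResidueField) ⊗ₜ[V] algebraMap V M π = 0
    rw [Algebra.algebraMap_eq_smul_one π, TensorProduct.tmul_smul, TensorProduct.smul_tmul',
      Algebra.smul_def, Ideal.algebraMap_residueField_eq_zero.2 (hπ.maximalIdeal_eq ▸ Ideal.mem_span_singleton_self π),
      zero_mul, TensorProduct.zero_tmul]
  have hker : ∀ x, ρ x = 0 → algebraMap V M π ∣ x := fun x hx => by
    let e : (V ⧸ maximalIdeal V) ≃ₗ[V] (maximalIdeal V).ResidueField := LinearEquiv.ofBijective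
      (IsScalarTower.toAlgHom V (V ⧸ maximalIdeal V) (maximalIdeal V).ResidueField).toLinearMap
      (Ideal.bijective_algebraMap_quotient_residueField _)
    have h1 : (Ideal.Quotient.mk (maximalIdeal V) (1 : V)) ⊗ₜ[V] x = 0 := by
      apply (TensorProduct.congr e (LinearEquiv.refl V M)).injective
      rw [map_zero, TensorProduct.congr_tmul, LinearEquiv.refl_apply]
      show (e 1 : (maximalIdeal V).ResidueField) ⊗ₜ[V] x = 0
      rw [show e 1 = 1 from map_one (algebraMap (V ⧸ maximalIdeal V) (maximalIdeal V).ResidueField)]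
      exact hx
    have h2 := congrArg (TensorProduct.quotTensorEquivQuotSMul M (maximalIdeal V)) h1
    rw [map_zero, TensorProduct.quotTensorEquivQuotSMul_mk_tmul, one_smul, Submodule.Quotient.mk_eq_zero,
      hπ.maximalIdeal_eq, Submodule.ideal_span_singleton_smul] at h2
    obtain ⟨y, -, hy⟩ := (Submodule.mem_smul_pointwise_iff_exists _ _ _).1 h2
    exact ⟨y, by rw [← Algebra.smul_def, hy]⟩
  have hu : IsUnit (algebraMap V M u) := u.isUnit.map _
  induction n generalizing c with
  | zero => exact ⟨↑hu.unit⁻¹ * c, by rw [pow_zero, mul_one, ← mul_assoc, hu.mul_val_inv, one_mul]⟩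
  | succ n ih =>
    rw [show algebraMap V M (↑u * π ^ (n + 1)) = algebraMap V M (↑u * π ^ n) * algebraMap V M π by
      rw [← map_mul, pow_succ, mul_assoc], Polynomial.scaleRoots_mul] at hc
    set Q := q.scaleRoots (algebraMap V M (↑u * π ^ n))
    have hQ : Q.Monic := Polynomial.monic_scaleRoots_iff _ |>.2 hq
    have h4 : (Q.scaleRoots (algebraMap V M π)).map ρ = Polynomial.X ^ Q.natDegree := by
      ext i
      rw [Polynomial.coeff_map, Polynomial.coeff_scaleRoots, Polynomial.coeff_X_pow, map_mul, map_pow, hρπ]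
      rcases lt_trichotomy i Q.natDegree with hi | rfl | hi
      · rw [zero_pow (Nat.sub_pos_of_lt hi).ne', mul_zero, if_neg hi.ne]
      · simp [hQ.coeff_natDegree]
      · rw [Polynomial.coeff_eq_zero_of_natDegree_lt hi, map_zero, zero_mul, if_neg hi.ne']
    have h5 := congrArg ρ hc
    rw [map_zero, ← Polynomial.eval_map_apply, h4, Polynomial.eval_X_pow] at h5
    obtain ⟨d, rfl⟩ := hker c (IsReduced.eq_zero _ ⟨_, h5⟩)
    rw [← Polynomial.eval₂_id, show algebraMap V M π * d = (RingHom.id M) (algebraMap V M π) * d from rfl,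
      Polynomial.scaleRoots_eval₂_mul] at hc
    have hnzd : IsSMulRegular M (π ^ Q.natDegree) :=
      Module.Flat.isSMulRegular_of_isRegular ((isRegular_of_ne_zero (pow_ne_zero _ hπ.ne_zero)))
    have hd : Q.eval d = 0 := hnzd (by
      show π ^ Q.natDegree • Q.eval d = π ^ Q.natDegree • 0
      rw [smul_zero, Algebra.smul_def, map_pow, ← Polynomial.eval₂_id]
      simpa using hc)
    obtain ⟨e, rfl⟩ := ih hd
    exact ⟨e, by rw [pow_succ, ← mul_assoc (u : V), map_mul _ ((u : V) * π ^ n) π]; ring⟩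

variable {A₀ : Type u} [CommRing A₀] {C : Type u} [CommRing C] [Algebra A₀ C] [Module.Flat A₀ C]
variable {L : Type u} [Field L] [Algebra A₀ L] (A' : Subalgebra A₀ L)

theorem exists_fg_lifts (p : Polynomial (A' ⊗[A₀] C)) : ∃ R : Subalgebra A₀ L, R.FG ∧ ∃ h : R ≤ A',
    ∀ i, p.coeff i ∈ (Algebra.TensorProduct.map (Subalgebra.inclusion h) (AlgHom.id A₀ C)).range := by
  classical
  obtain ⟨A₁, hA₁, h⟩ := exists_fg_range (A := A') (C₀ := C) p.coeffs
  refine ⟨A₁.map A'.val, hA₁.map _, fun x hx => by obtain ⟨y, -, rfl⟩ := Subalgebra.mem_map.1 hx; exact y.2,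
    fun i => ?_⟩
  rcases eq_or_ne (p.coeff i) 0 with h0 | h0
  · rw [h0]; exact zero_mem _
  obtain ⟨z, hz⟩ := h _ (Polynomial.coeff_mem_coeffs h0)
  refine ⟨Algebra.TensorProduct.map (AlgHom.codRestrict (A'.val.comp A₁.val) (A₁.map A'.val) fun y =>
    Subalgebra.mem_map.2 ⟨y, y.2, rfl⟩) (AlgHom.id A₀ C) z, ?_⟩
  rw [← hz]
  clear hz
  induction z using TensorProduct.induction_on with
  | zero => simp
  | tmul _ _ => simp [Algebra.TensorProduct.map_tmul]; rfl
  | add a b ha hb => simp only [map_add, ha, hb]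

theorem exists_model_integral (hfrac : ∀ l : L, ∃ a ∈ A', a ≠ 0 ∧ a * l ∈ A') (e : L ⊗[A₀] C)
    (he : (Algebra.TensorProduct.map A'.val (AlgHom.id A₀ C)).toRingHom.IsIntegralElem e) :
    ∃ (R₁ : Subalgebra A₀ L) (a : R₁), R₁.FG ∧ R₁ ≤ A' ∧ a ≠ 0 ∧ ∃ b : R₁ ⊗[A₀] C,
      Algebra.TensorProduct.map R₁.val (AlgHom.id A₀ C) b = ((a : L) ⊗ₜ (1 : C)) * e ∧
      ∃ p : Polynomial (R₁ ⊗[A₀] C), p.Monic ∧ (p.scaleRoots (a ⊗ₜ[A₀] (1 : C))).eval b = 0 := by
  classical
  obtain ⟨p, hp, hp0⟩ := he
  obtain ⟨R, hR, hR', hcoef⟩ := exists_fg_lifts A' p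
  obtain ⟨S, a, hS, hS', ha, z, hz⟩ := exists_model A' hfrac e
  let k : S →ₐ[A₀] (R ⊔ S : Subalgebra A₀ L) := Subalgebra.inclusion le_sup_right
  let T : Subalgebra A₀ L := R ⊔ S
  let jT := Algebra.TensorProduct.map T.val (AlgHom.id A₀ C)
  let i := Algebra.TensorProduct.map (Subalgebra.inclusion (show T ≤ A' from sup_le hR' hS')) (AlgHom.id A₀ C)
  have hcomp : ∀ x, Algebra.TensorProduct.map A'.val (AlgHom.id A₀ C) (i x) = jT x := fun x => by
    induction x using TensorProduct.induction_on with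
    | zero => simp
    | tmul _ _ => simp [i, jT, Subalgebra.coe_inclusion]
    | add x y hx hy => simp [map_add, hx, hy]
  have hkz : jT (Algebra.TensorProduct.map k (AlgHom.id A₀ C) z) = ((a : L) ⊗ₜ (1 : C)) * e := by
    rw [← hz]
    clear hz
    induction z using TensorProduct.induction_on with
    | zero => simp
    | tmul _ _ => simp [jT, k, Subalgebra.coe_inclusion]
    | add x y hx hy => simp [map_add, hx, hy]
  have hl : p ∈ Polynomial.lifts i.toRingHom := by
    rw [Polynomial.lifts_iff_coeff_lifts]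
    intro n
    obtain ⟨w, hw⟩ := hcoef n
    refine ⟨Algebra.TensorProduct.map (Subalgebra.inclusion (show R ≤ T from le_sup_left)) (AlgHom.id A₀ C) w, ?_⟩
    rw [← hw]
    clear hw
    induction w using TensorProduct.induction_on with
    | zero => simp
    | tmul _ _ => simp [i]
    | add x y hx hy => simp only [map_add, AlgHom.toRingHom_eq_coe] at *; simp [hx, hy]
  obtain ⟨q, hq, -, hqm⟩ := Polynomial.lifts_and_natDegree_eq_and_monic hl hp
  refine ⟨T, k a, hR.sup hS, sup_le hR' hS', fun h => ha (Subalgebra.inclusion_injective le_sup_right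
    (h.trans (map_zero k).symm)), _, hkz, q, hqm, map_injective T.val Subtype.val_injective ?_⟩
  show jT.toRingHom _ = jT 0
  rw [map_zero, ← Polynomial.eval₂_at_apply]
  show Polynomial.eval₂ jT.toRingHom (jT _) _ = 0
  rw [hkz]
  refine Polynomial.scaleRoots_eval₂_eq_zero jT.toRingHom (s := k a ⊗ₜ[A₀] (1 : C)) ?_
  rw [show jT.toRingHom = (Algebra.TensorProduct.map A'.val (AlgHom.id A₀ C)).toRingHom.comp i.toRingHom from
    RingHom.ext fun x => (hcomp x).symm, ← Polynomial.eval₂_map, hq, hp0]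

variable [IsNoetherianRing A₀]

/-- **Integral fractions are integral sections.** -/
theorem exists_integral_lift (hic : ∀ x : L, IsIntegral A' x → x ∈ A')
    (hfrac : ∀ l : L, ∃ a ∈ A', a ≠ 0 ∧ a * l ∈ A')
    (hred : ∀ (K : Type u) [Field K] [Algebra A₀ K], (A' →ₐ[A₀] K) → IsReduced (K ⊗[A₀] C))
    (e : L ⊗[A₀] C) (he : (Algebra.TensorProduct.map A'.val (AlgHom.id A₀ C)).toRingHom.IsIntegralElem e) :
    e ∈ Set.range (Algebra.TensorProduct.map A'.val (AlgHom.id A₀ C)) := by
  classical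
  obtain ⟨R₁, a, hR, hR', ha, b, hb, p₁, hp₁, hp₁0⟩ := exists_model_integral A' hfrac e he
  haveI : IsNoetherianRing R₁ := isNoetherianRing_of_fg hR
  have ha' : (a : L) ≠ 0 := fun h => ha (Subtype.ext h)
  let J : Ideal R₁ :=
    { carrier := {x | (x : L) / (a : L) ∈ A'}
      add_mem' := fun hx hy => by
        simp only [Set.mem_ofPred_eq, Subalgebra.coe_add, add_div] at *
        exact add_mem hx hy
      zero_mem' := by simp
      smul_mem' := fun r x hx => by
        simp only [Set.mem_ofPred_eq, smul_eq_mul, Subalgebra.coe_mul, mul_div_assoc] at *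
        exact mul_mem (hR' r.2) hx }
  have hJ : ∀ x, x ∈ J ↔ (x : L) / (a : L) ∈ A' := fun _ => Iff.rfl
  let j := Algebra.TensorProduct.map R₁.val (AlgHom.id A₀ C)
  let p : R₁ →ₐ[A₀] R₁ ⧸ J := Ideal.Quotient.mkₐ A₀ J
  let β := Algebra.TensorProduct.map p (AlgHom.id A₀ C) b
  by_cases hβ : β = 0
  · -- conclusion
    have hex : Function.Exact (LinearMap.rTensor C (J.subtype.restrictScalars A₀))
        (LinearMap.rTensor C p.toLinearMap) :=
      Module.Flat.rTensor_exact (M := C) fun x => by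
        refine ⟨fun h => ⟨⟨x, Ideal.Quotient.eq_zero_iff_mem.1 h⟩, rfl⟩, ?_⟩
        rintro ⟨y, rfl⟩
        exact Ideal.Quotient.eq_zero_iff_mem.2 y.2
    obtain ⟨z, hz⟩ := (hex b).1 hβ
    let d : J →ₗ[A₀] A' :=
      { toFun := fun x => ⟨((x : R₁) : L) / (a : L), x.2⟩
        map_add' := fun x y => Subtype.ext (add_div _ _ _)
        map_smul' := fun r x => Subtype.ext (by simp [Algebra.smul_def, mul_div_assoc]) }
    refine ⟨LinearMap.rTensor C d z, ?_⟩
    have hu : IsUnit ((a : L) ⊗ₜ[A₀] (1 : C)) :=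
      (IsUnit.mk0 _ ha').map (Algebra.TensorProduct.includeLeft : L →ₐ[A₀] L ⊗[A₀] C)
    refine hu.mul_right_injective ?_
    show ((a : L) ⊗ₜ[A₀] (1 : C)) * _ = (a : L) ⊗ₜ 1 * e
    rw [← hb]
    show _ = j b
    rw [← hz]
    clear hz
    induction z using TensorProduct.induction_on with
    | zero => simp
    | tmul x c => simp [j, d, Algebra.TensorProduct.tmul_mul_tmul, mul_div_cancel₀ _ ha']
    | add x y hx hy => simp only [map_add, mul_add, hx, hy]
  refine (hβ (eq_zero_of_detect J a ((hJ a).2 (by rw [div_self ha']; exact A'.one_mem)) β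
    fun q hq w hqw hw' => ?_)).elim
  haveI := hq
  obtain ⟨P', hP', hPq⟩ := exists_prime_over A' R₁ hR' a J hJ q w hqw hw'
  obtain ⟨V, _, _, hV, _, ψ, hψ, hψJ, hψw, hψu, hψm⟩ :=
    exists_dvr_detect A' hic R₁ hR hR' a ha J hJ q w hqw hw'
  -- the special fibre over `V` is reduced
  let κV := (maximalIdeal V).ResidueField
  haveI : IsReduced (κV ⊗[V] (V ⊗[A₀] C)) := by
    haveI := hP'
    let κq := q.ResidueField
    let α : κq →ₐ[A₀] κV := Ideal.ResidueField.liftₐ q ((IsScalarTower.toAlgHom A₀ V κV).comp ψ)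
      (fun s hs => by
        show algebraMap V κV (ψ s) = 0
        exact Ideal.algebraMap_residueField_eq_zero.2 (hψm s hs))
      (fun s hs => (hψu s hs).map (algebraMap V κV))
    let α' : κq →ₐ[A₀] P'.ResidueField := Ideal.ResidueField.liftₐ q
      ((IsScalarTower.toAlgHom A₀ A' P'.ResidueField).comp (Subalgebra.inclusion hR'))
      (fun s hs => by
        show algebraMap A' P'.ResidueField (Subalgebra.inclusion hR' s) = 0
        exact Ideal.algebraMap_residueField_eq_zero.2 (Ideal.mem_comap.1 (hPq.ge hs)))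
      (fun s hs => IsUnit.mk0 _ fun h0 => hs (by
        exact hPq.le (Ideal.mem_comap.2 (Ideal.algebraMap_residueField_eq_zero.1 h0))))
    letI := α.toRingHom.toAlgebra
    letI := α'.toRingHom.toAlgebra
    haveI : IsScalarTower A₀ κq κV := IsScalarTower.of_algebraMap_eq fun x => (α.commutes x).symm
    haveI : IsScalarTower A₀ κq P'.ResidueField := IsScalarTower.of_algebraMap_eq fun x => (α'.commutes x).symm
    haveI : Nontrivial (κV ⊗[κq] P'.ResidueField) :=
      TensorProduct.nontrivial_of_linearMap_injective_of_flat_right κq κV P'.ResidueField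
        (Algebra.linearMap κq κV) (algebraMap κq κV).injective
    obtain ⟨M, hM⟩ := Ideal.exists_maximal (κV ⊗[κq] P'.ResidueField)
    letI := Ideal.Quotient.field M
    let K := (κV ⊗[κq] P'.ResidueField) ⧸ M
    let iV : κV →ₐ[A₀] K :=
      ((Ideal.Quotient.mkₐ κq M).comp Algebra.TensorProduct.includeLeft).restrictScalars A₀
    let iA : A' →ₐ[A₀] K := (((Ideal.Quotient.mkₐ κq M).comp Algebra.TensorProduct.includeRight).restrictScalars A₀).comp
      (IsScalarTower.toAlgHom A₀ A' P'.ResidueField)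
    haveI := hred K iA
    haveI : IsReduced (κV ⊗[A₀] C) :=
      isReduced_of_injective _ (map_injective (C := C) iV iV.toRingHom.injective)
    exact isReduced_of_injective _ (Algebra.TensorProduct.cancelBaseChange A₀ V κV κV C).injective
  obtain ⟨d, hd⟩ := exists_eq_mul_of_integral (M := V ⊗[A₀] C) (a := ψ a)
    (fun h => ha (hψ (h.trans (map_zero ψ).symm)))
    (q := p₁.map (Algebra.TensorProduct.map ψ (AlgHom.id A₀ C)).toRingHom) (hp₁.map _)
    (c := Algebra.TensorProduct.map ψ (AlgHom.id A₀ C) b) (by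
      have h1 : (Algebra.TensorProduct.map ψ (AlgHom.id A₀ C)).toRingHom (a ⊗ₜ[A₀] (1 : C)) = algebraMap V (V ⊗[A₀] C) (ψ a) := rfl
      rw [← h1, ← map_scaleRoots_monic _ hp₁]
      show Polynomial.eval ((Algebra.TensorProduct.map ψ (AlgHom.id A₀ C)).toRingHom b) _ = 0
      rw [Polynomial.eval_map, Polynomial.eval₂_at_apply, hp₁0, map_zero])
  refine ⟨V, inferInstance, inferInstance, inferInstance, inferInstance, ψ,
    fun h0 => ha (hψ (h0.trans (map_zero ψ).symm)),
    fun x hx => Ideal.Quotient.eq_zero_iff_mem.2 (Ideal.mem_span_singleton.2 (hψJ x hx)), hψw, hψu, ?_⟩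
  let Ja : Ideal V := Ideal.span {ψ a}
  let f : (R₁ ⧸ J) →ₐ[A₀] V ⧸ Ja := Ideal.Quotient.liftₐ J ((Ideal.Quotient.mkₐ A₀ Ja).comp ψ) fun x hx =>
    Ideal.Quotient.eq_zero_iff_mem.2 (Ideal.mem_span_singleton.2 (hψJ x hx))
  let F := Algebra.TensorProduct.map f (AlgHom.id A₀ C)
  show F β = 0
  have e1 : F β = Algebra.TensorProduct.map (Ideal.Quotient.mkₐ A₀ Ja) (AlgHom.id A₀ C)
      (Algebra.TensorProduct.map ψ (AlgHom.id A₀ C) b) := by
    show F (Algebra.TensorProduct.map p (AlgHom.id A₀ C) b) = _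
    generalize b = x
    induction x using TensorProduct.induction_on with
    | zero => simp
    | tmul _ _ => exact rfl
    | add x z hx hz => simp only [map_add, hx, hz]
  rw [e1, hd, map_mul]
  refine mul_eq_zero_of_left ?_ _
  show Ideal.Quotient.mk Ja (ψ a) ⊗ₜ[A₀] (1 : C) = 0
  rw [Ideal.Quotient.eq_zero_iff_mem.2 (Ideal.mem_span_singleton_self _), TensorProduct.zero_tmul]


/-- **A flat finitely presented algebra with geometrically reduced fibres over a normal domain is integrally closed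
in its generic fibre.** -/
theorem mem_range_of_isIntegralElem {A K B : Type u} [CommRing A] [IsDomain A] [IsIntegrallyClosed A] [Field K]
    [Algebra A K] [IsFractionRing A K] [CommRing B] [Algebra A B] [Module.Flat A B] [Algebra.FinitePresentation A B]
    (hred : ∀ (k : Type u) [Field k] [Algebra A k], IsReduced (k ⊗[A] B))
    (z : K ⊗[A] B) (hz : (Algebra.TensorProduct.includeRight : B →ₐ[A] K ⊗[A] B).toRingHom.IsIntegralElem z) :
    ∃ b : B, (1 : K) ⊗ₜ[A] b = z := by
  letI : Algebra B (K ⊗[A] B) := Algebra.TensorProduct.rightAlgebra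
  obtain ⟨A₀, _, _, _, C₀, _, _, _, ⟨ε⟩⟩ := hasModel_of_finitePresentation (A := A) (C := B)
  letI : Algebra A₀ K := ((algebraMap A K).comp (algebraMap A₀ A)).toAlgebra
  haveI : IsScalarTower A₀ A K := IsScalarTower.of_algebraMap_eq fun _ => rfl
  let ι : A →ₐ[A₀] K := IsScalarTower.toAlgHom A₀ A K
  let A' : Subalgebra A₀ K := ι.range
  let Φ : K ⊗[A₀] C₀ ≃ₐ[A] K ⊗[A] B := ((Algebra.TensorProduct.cancelBaseChange A₀ A A K C₀).symm).trans
    (Algebra.TensorProduct.congr AlgEquiv.refl ε)
  have hΦ : ∀ y : A ⊗[A₀] C₀, Φ (Algebra.TensorProduct.map ι (AlgHom.id A₀ C₀) y) = (1 : K) ⊗ₜ[A] ε y := fun y => by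
    induction y using TensorProduct.induction_on with
    | zero => simp
    | tmul a c =>
      rw [show (1 : K) ⊗ₜ[A] ε (a ⊗ₜ c) = (a • (1 : K)) ⊗ₜ[A] ε ((1 : A) ⊗ₜ c) by
        rw [TensorProduct.smul_tmul, ← map_smul, TensorProduct.smul_tmul', smul_eq_mul, mul_one]]
      simp [Φ, ι, Algebra.smul_def]
    | add x y hx hy => simp only [map_add, TensorProduct.tmul_add, hx, hy]
  let r : A ⊗[A₀] C₀ →ₐ[A₀] A' ⊗[A₀] C₀ := Algebra.TensorProduct.map ι.rangeRestrict (AlgHom.id A₀ C₀)
  have hr : ∀ y, Algebra.TensorProduct.map A'.val (AlgHom.id A₀ C₀) (r y) =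
      Algebra.TensorProduct.map ι (AlgHom.id A₀ C₀) y := fun y => by
    induction y using TensorProduct.induction_on with
    | zero => simp
    | tmul a c => simp [r]
    | add x y hx hy => simp only [map_add, hx, hy]
  have hsurj : Function.Surjective r := TensorProduct.map_surjective ι.rangeRestrict_surjective Function.surjective_id
  have hic : ∀ x : K, IsIntegral A' x → x ∈ A' := fun x hx => by
    obtain ⟨p, hp, hp0⟩ := hx
    have hl : p ∈ Polynomial.lifts ι.rangeRestrict.toRingHom := Polynomial.map_surjective _ ι.rangeRestrict_surjective p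
    obtain ⟨q, hq, -, hqm⟩ := Polynomial.lifts_and_natDegree_eq_and_monic hl hp
    obtain ⟨y, hy⟩ := IsIntegrallyClosed.isIntegral_iff.1 (show IsIntegral A x from ⟨q, hqm, by
      rw [← hq, Polynomial.eval₂_map] at hp0; exact hp0⟩)
    exact ⟨y, hy⟩
  have hfrac : ∀ l : K, ∃ a ∈ A', a ≠ 0 ∧ a * l ∈ A' := fun l => by
    obtain ⟨x, d, hd, rfl⟩ := IsFractionRing.div_surjective (A := A) l
    have hd0 : algebraMap A K d ≠ 0 := IsFractionRing.to_map_ne_zero_of_mem_nonZeroDivisors hd
    exact ⟨algebraMap A K d, ⟨d, rfl⟩, hd0, x, by rw [mul_div_cancel₀ _ hd0]; rfl⟩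
  have hred' : ∀ (k : Type u) [Field k] [Algebra A₀ k], (A' →ₐ[A₀] k) → IsReduced (k ⊗[A₀] C₀) := by
    intro k _ _ θ
    letI : Algebra A k := (θ.comp ι.rangeRestrict).toRingHom.toAlgebra
    haveI : IsScalarTower A₀ A k := IsScalarTower.of_algebraMap_eq fun x => ((θ.comp ι.rangeRestrict).commutes x).symm
    haveI := hred k
    exact isReduced_of_injective _ ((Algebra.TensorProduct.cancelBaseChange A₀ A A k C₀).symm.trans
      (Algebra.TensorProduct.congr AlgEquiv.refl ε)).injective
  have he : (Algebra.TensorProduct.map A'.val (AlgHom.id A₀ C₀)).toRingHom.IsIntegralElem (Φ.symm z) := by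
    obtain ⟨p, hp, hp0⟩ := hz
    refine ⟨p.map (r.toRingHom.comp ε.symm.toRingHom), hp.map _, Φ.injective ?_⟩
    rw [map_zero, Polynomial.eval₂_map]
    refine (Polynomial.hom_eval₂ p _ Φ.toRingHom _).trans ?_
    rw [← hp0]
    refine congrArg₂ (fun f x => Polynomial.eval₂ f x p) (RingHom.ext fun b => ?_) (Φ.apply_symm_apply z)
    show Φ (Algebra.TensorProduct.map A'.val (AlgHom.id A₀ C₀) (r (ε.symm b))) = (1 : K) ⊗ₜ[A] b
    rw [hr, hΦ, ε.apply_symm_apply]
  obtain ⟨w, hw⟩ := exists_integral_lift A' hic hfrac hred' (Φ.symm z) he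
  obtain ⟨y, rfl⟩ := hsurj w
  exact ⟨ε y, by rw [← hΦ, ← hr, hw, Φ.apply_symm_apply]⟩

end Groth.Agent.EtaMod
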