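import Groth.Agent.EtaMod.Ring
import Groth.Prelude.Def_Pi1
import Groth.Agent.S9821
import Mathlib

/-!
A finite birational modification of a flat scheme with geometrically reduced fibres over a normal base is trivial.
-/

set_option autoImplicit false
set_option maxHeartbeats 1600000
set_option synthInstance.maxHeartbeats 400000
set_option backward.isDefEq.respectTransparency false
set_option backward.isDefEq.respectTransparency.types false
set_option linter.style.haveILetI false

universe u

open CategoryTheory CategoryTheory.Limits AlgebraicGeometry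
open scoped TensorProduct

noncomputable section

namespace Groth.Agent.EtaMod

theorem isPullback_tensor (A K B : Type u) [CommRing A] [CommRing K] [CommRing B] [Algebra A K] [Algebra A B] :
    IsPullback (Spec.map (CommRingCat.ofHom (Algebra.TensorProduct.includeRight : B →ₐ[A] K ⊗[A] B).toRingHom))
      (Spec.map (CommRingCat.ofHom (Algebra.TensorProduct.includeLeftRingHom : K →+* K ⊗[A] B)))
      (Spec.map (CommRingCat.ofHom (algebraMap A B))) (Spec.map (CommRingCat.ofHom (algebraMap A K))) :=
  isPullback_SpecMap_of_isPushout _ _ _ _ (CommRingCat.isPushout_tensorProduct A K B).flip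

theorem _root_.CategoryTheory.IsPullback.of_iso_comp_mono {C : Type*} [Category C] {P Y Z W W' : C} {fst : P ⟶ Y}
    {snd : P ⟶ Z} {a : Y ⟶ W} {b : Z ⟶ W} (h : IsPullback fst snd a b) (m : W ⟶ W') [Mono m] :
    IsPullback fst snd (a ≫ m) (b ≫ m) :=
  ⟨⟨h.w_assoc m⟩, ⟨PullbackCone.IsLimit.mk _ (fun s => h.lift s.fst s.snd ((cancel_mono m).1 (by simpa using s.condition)))
    (fun s => h.lift_fst _ _ _) (fun s => h.lift_snd _ _ _) (fun s l h₁ h₂ => h.hom_ext (by simpa using h₁) (by simpa using h₂))⟩⟩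

theorem injective_of_dominant {R T : CommRingCat.{u}} (α : R ⟶ T) [IsSchemeTheoreticallyDominant (Spec.map α)] :
    Function.Injective α.hom := by
  have h := Scheme.ΓSpecIso_inv_naturality α
  intro x y hxy
  have h1 : (Spec.map α).appTop ((Scheme.ΓSpecIso R).inv x) = (Spec.map α).appTop ((Scheme.ΓSpecIso R).inv y) := by
    rw [← ConcreteCategory.comp_apply, ← ConcreteCategory.comp_apply, ← h, ConcreteCategory.comp_apply,
      ConcreteCategory.comp_apply]
    exact congrArg _ hxy
  exact (ConcreteCategory.bijective_of_isIso (Scheme.ΓSpecIso R).inv).1 ((Spec.map α).app_injective ⊤ h1)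

theorem isIso_of_finite_of_isIso_generic {S X X' : Scheme.{u}} [IsIntegral S] [QuasiSeparatedSpace S]
    (hS : Pi1.IsNormalScheme S) (φ : X ⟶ S) [Flat φ] [LocallyOfFinitePresentation φ]
    (hred : ∀ (K : Type u) [Field K] (k : Spec (CommRingCat.of K) ⟶ S), IsReduced (pullback φ k))
    (f : X' ⟶ X) [IsFinite f] (U : X.Opens) (hU' : IsSchemeTheoreticallyDominant (f ⁻¹ᵁ U).ι) (hfU : IsIso (f ∣_ U))
    (hη : IsIso (pullback.snd f (pullback.fst φ (S.fromSpecStalk (genericPoint S))))) :
    IsIso f := by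
  let η := S.fromSpecStalk (genericPoint S)
  let g := pullback.fst φ η
  let g' := pullback.fst f g
  haveI : QuasiCompact η := QuasiCompact.of_comp η (terminal.from S)
  haveI : IsDominant η := by
    rw [isDominant_iff, DenseRange, dense_iff_closure_eq, Set.eq_univ_iff_forall]
    exact fun s => (genericPoint_specializes s).mem_closed isClosed_closure
      (subset_closure (by rw [Scheme.range_fromSpecStalk]; exact specializes_refl _))
  haveI : IsSchemeTheoreticallyDominant η := .of_isDominant η
  haveI : IsSchemeTheoreticallyDominant g := inferInstanceAs (IsSchemeTheoreticallyDominant (pullback.fst φ η))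
  haveI : QuasiCompact g := inferInstanceAs (QuasiCompact (pullback.fst φ η))
  haveI : IsSchemeTheoreticallyDominant g' := by
    let ι' := (f ⁻¹ᵁ U).ι
    haveI : Flat (ι' ≫ f) := by
      rw [show ι' ≫ f = (f ∣_ U) ≫ U.ι from (morphismRestrict_ι f U).symm]
      infer_instance
    let p := pullback.fst (ι' ≫ f) g
    haveI : IsSchemeTheoreticallyDominant p := inferInstanceAs (IsSchemeTheoreticallyDominant (pullback.fst _ g))
    let j : pullback (ι' ≫ f) g ⟶ pullback f g := pullback.lift (p ≫ ι') (pullback.snd _ _) (by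
      rw [Category.assoc]; exact pullback.condition)
    have hj : j ≫ g' = p ≫ ι' := pullback.lift_fst _ _ _
    haveI := hU'
    rw [isSchemeTheoreticallyDominant_iff, eq_bot_iff]
    calc g'.ker ≤ (j ≫ g').ker := j.le_ker_comp g'
      _ = (p ≫ ι').ker := by rw [hj]
      _ = ⊥ := (inferInstance : IsSchemeTheoreticallyDominant (p ≫ ι')).ker_eq_bot
  haveI := hη
  let h : pullback φ η ⟶ X' := inv (pullback.snd f g) ≫ g'
  have hh : h ≫ f = g := by
    rw [Category.assoc, IsIso.inv_comp_eq]
    exact pullback.condition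
  haveI : IsSchemeTheoreticallyDominant h := inferInstanceAs (IsSchemeTheoreticallyDominant (_ ≫ g'))
  haveI : QuasiCompact h := inferInstanceAs (QuasiCompact (_ ≫ pullback.fst f g))
  -- an affine basis compatible with `φ`
  let ι₀ := {W : X.affineOpens // ∃ V : S.affineOpens, W.1 ≤ φ ⁻¹ᵁ V.1}
  have hcov : ⨆ W : ι₀, W.1.1 = ⊤ := by
    refine top_le_iff.1 fun x _ => ?_
    obtain ⟨_, ⟨V, hV, rfl⟩, hxV, -⟩ := S.isBasis_affineOpens.exists_subset_of_mem_open (Set.mem_univ (φ x)) isOpen_univ
    obtain ⟨_, ⟨W, hW, rfl⟩, hxW, hWV⟩ := X.isBasis_affineOpens.exists_subset_of_mem_open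
      (show x ∈ ((φ ⁻¹ᵁ V : X.Opens) : Set X) from hxV) (φ ⁻¹ᵁ V).isOpen
    exact TopologicalSpace.Opens.mem_iSup.2 ⟨⟨⟨W, hW⟩, ⟨V, hV⟩, hWV⟩, hxW⟩
  refine (IsZariskiLocalAtTarget.iff_of_iSup_eq_top (P := MorphismProperty.isomorphisms Scheme.{u}) _ hcov).2 ?_
  rintro ⟨⟨W, hW⟩, ⟨V, hV⟩, hWV⟩
  show IsIso (f ∣_ W)
  rw [isIso_morphismRestrict_iff_isIso_app _ hW, ConcreteCategory.isIso_iff_bijective]
  rcases eq_bot_or_bot_lt V with rfl | hVne
  · have hW0 : W = ⊥ := eq_bot_iff.2 (hWV.trans (by simp))
    subst hW0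
    haveI : Subsingleton Γ(X', f ⁻¹ᵁ ⊥) := by
      rw [show f ⁻¹ᵁ (⊥ : X.Opens) = ⊥ by simp]
      infer_instance
    haveI : Subsingleton Γ(X, (⊥ : X.Opens)) := inferInstance
    exact ⟨fun a b _ => Subsingleton.elim a b, fun b => ⟨0, Subsingleton.elim _ _⟩⟩
  haveI : Nonempty V := by
    obtain ⟨x, hx⟩ := (TopologicalSpace.Opens.ne_bot_iff_nonempty V).1 hVne.ne'
    exact ⟨⟨x, hx⟩⟩
  let A := Γ(S, V)
  let B := Γ(X, W)
  let B' := Γ(X', f ⁻¹ᵁ W)
  have hW' : IsAffineOpen (f ⁻¹ᵁ W) := hW.preimage f
  haveI : IsDomain A := inferInstanceAs (IsDomain Γ(S, V))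
  haveI : IsIntegrallyClosed A := (S9821.result S).1 hS V hV
  letI : Algebra A B := (φ.appLE V W hWV).hom.toAlgebra
  haveI : Module.Flat A B := φ.flat_appLE hV hW hWV
  haveI : Algebra.FinitePresentation A B := φ.finitePresentation_appLE hV hW hWV
  have hsq : ∀ (K : Type u) [Field K] [Algebra A K],
      ∃ e : Spec (CommRingCat.of (K ⊗[A] B)) ⟶ pullback φ (Spec.map (CommRingCat.ofHom (algebraMap A K)) ≫ hV.fromSpec),
        IsPullback (Spec.map (CommRingCat.ofHom (Algebra.TensorProduct.includeRight : B →ₐ[A] K ⊗[A] B).toRingHom)) e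
          hW.fromSpec (pullback.fst _ _) := by
    intro K _ _
    have t := isPullback_tensor A K B
    have t' : IsPullback (Spec.map (CommRingCat.ofHom (Algebra.TensorProduct.includeRight : B →ₐ[A] K ⊗[A] B).toRingHom))
        (Spec.map (CommRingCat.ofHom (Algebra.TensorProduct.includeLeftRingHom : K →+* K ⊗[A] B)))
        (hW.fromSpec ≫ φ) (Spec.map (CommRingCat.ofHom (algebraMap A K)) ≫ hV.fromSpec) := by
      have e1 : hW.fromSpec ≫ φ = Spec.map (CommRingCat.ofHom (algebraMap A B)) ≫ hV.fromSpec :=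
        (IsAffineOpen.SpecMap_appLE_fromSpec φ hV hW hWV).symm
      rw [e1]
      exact t.of_iso_comp_mono hV.fromSpec
    refine ⟨pullback.lift (Spec.map _ ≫ hW.fromSpec) _ (by rw [Category.assoc]; exact t'.w),
      IsPullback.of_bot ?_ (pullback.lift_fst _ _ _).symm (IsPullback.of_hasPullback _ _)⟩
    rw [pullback.lift_snd]
    exact t'
  have hredB : ∀ (K : Type u) [Field K] [Algebra A K], _root_.IsReduced (K ⊗[A] B) := by
    intro K _ _
    obtain ⟨e, he⟩ := hsq K
    haveI := hred K (Spec.map (CommRingCat.ofHom (algebraMap A K)) ≫ hV.fromSpec)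
    haveI : IsOpenImmersion e := MorphismProperty.of_isPullback (P := @IsOpenImmersion) he (inferInstance : IsOpenImmersion hW.fromSpec)
    haveI : IsReduced (Spec (CommRingCat.of (K ⊗[A] B))) := isReduced_of_isOpenImmersion e
    exact (affine_isReduced_iff (CommRingCat.of (K ⊗[A] B))).1 inferInstance
  -- the generic fibre
  have hηV : genericPoint S ∈ V := ((genericPoint_spec S).mem_open_set_iff V.isOpen).2 (by
    simpa using (TopologicalSpace.Opens.ne_bot_iff_nonempty V).1 hVne.ne')
  let K := S.presheaf.stalk (genericPoint S)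
  letI : Field K := inferInstanceAs (Field S.functionField)
  letI : Algebra A K := (S.presheaf.germ V (genericPoint S) hηV).hom.toAlgebra
  haveI : IsFractionRing A K := functionField_isFractionRing_of_isAffineOpen S V hV
  have hk : Spec.map (CommRingCat.ofHom (algebraMap A K)) ≫ hV.fromSpec = η :=
    hV.fromSpecStalk_eq_fromSpecStalk hηV
  obtain ⟨e, he⟩ : ∃ e : Spec (CommRingCat.of (K ⊗[A] B)) ⟶ pullback φ η,
      IsPullback (Spec.map (CommRingCat.ofHom (Algebra.TensorProduct.includeRight : B →ₐ[A] K ⊗[A] B).toRingHom)) e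
          hW.fromSpec g := by
    have := hsq K
    simp only [g]
    rw [← hk]
    exact this
  let φf : B ⟶ B' := f.app W
  have hf : Spec.map φf ≫ hW.fromSpec = hW'.fromSpec ≫ f := by
    rw [show φf = f.appLE W (f ⁻¹ᵁ W) le_rfl from f.app_eq_appLE]
    exact IsAffineOpen.SpecMap_appLE_fromSpec f hW hW' le_rfl
  have hpf : IsPullback (Spec.map φf) hW'.fromSpec hW.fromSpec f :=
    (isPullback_morphismRestrict f W).of_iso hW'.isoSpec hW.isoSpec (Iso.refl _) (Iso.refl _)
      (by
        rw [← cancel_mono hW.fromSpec, Category.assoc, Category.assoc, hf, IsAffineOpen.isoSpec_hom,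
          IsAffineOpen.isoSpec_hom, IsAffineOpen.toSpecΓ_fromSpec, IsAffineOpen.toSpecΓ_fromSpec_assoc]
        exact morphismRestrict_ι f W)
      (by simp [IsAffineOpen.isoSpec_hom]) (by simp [IsAffineOpen.isoSpec_hom]) (by simp)
  let inc : B ⟶ CommRingCat.of (K ⊗[A] B) :=
    CommRingCat.ofHom (Algebra.TensorProduct.includeRight : B →ₐ[A] K ⊗[A] B).toRingHom
  let j : Spec (CommRingCat.of (K ⊗[A] B)) ⟶ Spec B' :=
    hpf.lift (Spec.map inc) (e ≫ h) (by rw [Category.assoc, hh]; exact he.w)
  have hj : IsPullback j e hW'.fromSpec h := by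
    refine IsPullback.of_right ?_ (hpf.lift_snd _ _ _) hpf
    rw [hh, hpf.lift_fst]
    exact he
  haveI : IsSchemeTheoreticallyDominant j := IsSchemeTheoreticallyDominant.of_isPullback hj.flip
  let α : B' ⟶ CommRingCat.of (K ⊗[A] B) := Spec.preimage j
  haveI : IsSchemeTheoreticallyDominant (Spec.map α) := by rw [Spec.map_preimage]; infer_instance
  have hα : Function.Injective α.hom := injective_of_dominant α
  have hcomp : φf ≫ α = inc := Spec.map_injective (by rw [Spec.map_comp, Spec.map_preimage]; exact hpf.lift_fst _ _ _)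
  have happ : ∀ b, α.hom (φf.hom b) = inc.hom b := fun b => by rw [← hcomp]; rfl
  have hinc : Function.Injective inc.hom :=
    Algebra.TensorProduct.includeRight_injective (IsFractionRing.injective A K)
  refine ⟨fun a b hab => hinc (by rw [← happ, ← happ]; exact congrArg α.hom hab), fun x => ?_⟩
  have hint : φf.hom.IsIntegralElem x := (IsFinite.finite_app f W hW).to_isIntegral x
  obtain ⟨b, hb⟩ := mem_range_of_isIntegralElem hredB (α.hom x) (by
    obtain ⟨p, hp, hp0⟩ := hint
    refine ⟨p, hp, ?_⟩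
    have := congrArg α.hom hp0
    rw [map_zero, Polynomial.hom_eval₂] at this
    rwa [show α.hom.comp φf.hom = inc.hom from congrArg CommRingCat.Hom.hom hcomp] at this)
  exact ⟨b, hα ((happ b).trans hb)⟩

end Groth.Agent.EtaMod
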